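import Mathlib
import Groth.Agent.CodimOneFlat.Main

/-!
# Regular sequences and flatness over a base ring

For a `C`-algebra `B`, a finite sequence in the Jacobson radical with flat quotient is regular modulo every
ideal of `C` as soon as it is regular (`descend`); conversely, over an Artinian local base, a sequence
which is regular on the closed fibre is regular and has flat quotient (`ascend`).
-/

set_option autoImplicit false

universe u

open TensorProduct

namespace Groth.Agent.ArtinFlat

variable {C : Type u} [CommRing C] {B : Type u} [CommRing B] [Algebra C B]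

/-- Multiplication `B ⊗ I → B`. -/
noncomputable def mu (B : Type u) [CommRing B] [Algebra C B] (I : Ideal C) : B ⊗[C] I →ₗ[B] B :=
  LinearMap.liftBaseChange B ((Algebra.linearMap C B).comp I.subtype)

theorem mu_tmul (I : Ideal C) (b : B) (i : I) : mu B I (b ⊗ₜ i) = b * algebraMap C B (i : C) := rfl

theorem flat_iff : Module.Flat C B ↔ ∀ I : Ideal C, Function.Injective (mu B I) := by
  rw [Module.Flat.iff_lTensor_injective']
  refine forall_congr' fun I => ?_
  have h : ⇑(mu B I) = ⇑(TensorProduct.rid C B) ∘ ⇑(I.subtype.lTensor B) := by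
    funext z
    induction z with
    | zero => simp
    | add a b ha hb => simp only [map_add, ha, hb, Function.comp_apply]
    | tmul b i => simp [mu_tmul, Algebra.smul_def, mul_comm]
  rw [h]
  exact ((TensorProduct.rid C B).injective.of_comp_iff _).symm

theorem exists_mu (I : Ideal C) {y : B} (hy : y ∈ I.map (algebraMap C B)) : ∃ z, mu B I z = y := by
  refine Submodule.span_induction ?_ ⟨0, map_zero _⟩ ?_ ?_ hy
  · rintro _ ⟨c, hc, rfl⟩
    exact ⟨1 ⊗ₜ ⟨c, hc⟩, by rw [mu_tmul, one_mul]⟩
  · rintro a b - - ⟨za, rfl⟩ ⟨zb, rfl⟩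
    exact ⟨za + zb, map_add _ _ _⟩
  · rintro r a - ⟨za, rfl⟩
    exact ⟨r • za, map_smul _ _ _⟩

theorem mu_mem (I : Ideal C) (z : B ⊗[C] I) : mu B I z ∈ I.map (algebraMap C B) := by
  induction z with
  | zero => simp
  | add a b ha hb => rw [map_add]; exact add_mem ha hb
  | tmul b i => rw [mu_tmul]; exact Ideal.mul_mem_left _ _ (Ideal.mem_map_of_mem _ i.2)

/-- `z` dies in `(B / K) ⊗ I` only if it lies in `K (B ⊗ I)`. -/
theorem mem_smul_top_of_mk_eq_zero (K : Ideal B) (I : Ideal C) (z : B ⊗[C] I)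
    (h : (Ideal.Quotient.mkₐ C K).toLinearMap.rTensor I z = 0) : z ∈ K • (⊤ : Submodule B (B ⊗[C] I)) := by
  have hex : Function.Exact (K.subtype.restrictScalars C) (Ideal.Quotient.mkₐ C K).toLinearMap := by
    intro b
    show Ideal.Quotient.mk K b = 0 ↔ _
    rw [Ideal.Quotient.eq_zero_iff_mem]
    exact ⟨fun hb => ⟨⟨b, hb⟩, rfl⟩, fun ⟨k, hk⟩ => hk ▸ k.2⟩
  obtain ⟨w, rfl⟩ := (rTensor_exact I hex (Ideal.Quotient.mkₐ_surjective C K) z).mp h
  clear h
  induction w with
  | zero => simp
  | add a b ha hb => rw [map_add]; exact add_mem ha hb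
  | tmul k i =>
    rw [LinearMap.rTensor_tmul]
    have : (K.subtype.restrictScalars C k) ⊗ₜ[C] i = (k : B) • ((1 : B) ⊗ₜ[C] i) := by
      rw [TensorProduct.smul_tmul', smul_eq_mul, mul_one]; rfl
    rw [this]
    exact Submodule.smul_mem_smul k.2 trivial

theorem mu_mk (K : Ideal B) (I : Ideal C) (z : B ⊗[C] I) :
    mu (B ⧸ K) I ((Ideal.Quotient.mkₐ C K).toLinearMap.rTensor I z) = Ideal.Quotient.mk K (mu B I z) := by
  induction z with
  | zero => simp
  | add a b ha hb => simp only [map_add, ha, hb]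
  | tmul b i => simp [mu_tmul]

/-- `(x) ⊗` : the elements of `x (B ⊗ I)`. -/
theorem exists_eq_smul (x : B) (I : Ideal C) (z : B ⊗[C] I)
    (h : (Ideal.Quotient.mkₐ C (Ideal.span {x})).toLinearMap.rTensor I z = 0) : ∃ w, z = x • w := by
  have h' := mem_smul_top_of_mk_eq_zero _ I z h
  rw [Submodule.ideal_span_singleton_smul, Submodule.mem_smul_pointwise_iff_exists] at h'
  obtain ⟨w, -, hw⟩ := h'
  exact ⟨w, hw.symm⟩

/-- If `B / (x)` is flat, then an element of `x B ∩ I B` comes from `I B`. -/
theorem mem_map_of_mul_mem_of_flat {x : B} (hx : ∀ y, x * y = 0 → y = 0)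
    [Module.Flat C (B ⧸ Ideal.span {x})] (I : Ideal C) {y : B} (hy : x * y ∈ I.map (algebraMap C B)) :
    y ∈ I.map (algebraMap C B) := by
  obtain ⟨z, hz⟩ := exists_mu I hy
  obtain ⟨w, rfl⟩ := exists_eq_smul x I z (flat_iff.mp inferInstance I (by
    rw [map_zero, mu_mk, hz, Ideal.Quotient.eq_zero_iff_mem]
    exact Ideal.mul_mem_right _ _ (Ideal.mem_span_singleton_self x)))
  rw [map_smul, smul_eq_mul] at hz
  have : mu B I w - y = 0 := hx _ (by rw [mul_sub, hz, sub_self])
  rw [← sub_eq_zero.mp this]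
  exact mu_mem I w

/-- If `B / (x)` is flat, `x` is regular and in the Jacobson radical, `B` is flat. -/
theorem flat_of_flat_quotient [IsNoetherianRing C] [IsNoetherianRing B] {x : B}
    (hx : ∀ y, x * y = 0 → y = 0) (hj : x ∈ (⊥ : Ideal B).jacobson)
    [Module.Flat C (B ⧸ Ideal.span {x})] : Module.Flat C B := by
  rw [flat_iff]
  intro I
  rw [← LinearMap.ker_eq_bot]
  haveI : Module.Finite C I := Module.Finite.iff_fg.mpr (IsNoetherian.noetherian I)
  haveI : Module.Finite B (B ⊗[C] I) := inferInstance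
  refine Submodule.eq_bot_of_le_smul_of_le_jacobson_bot (Ideal.span {x}) _ (IsNoetherian.noetherian _) ?_
    ((Ideal.span_singleton_le_iff_mem _).mpr hj)
  intro z hz
  obtain ⟨w, rfl⟩ := exists_eq_smul x I z (flat_iff.mp inferInstance I (by
    rw [map_zero, mu_mk, LinearMap.mem_ker.mp hz, map_zero]))
  rw [LinearMap.mem_ker, map_smul, smul_eq_mul] at hz
  exact Submodule.smul_mem_smul (Ideal.mem_span_singleton_self x) (LinearMap.mem_ker.mpr (hx _ hz))

/-- An element regular modulo every ideal of the base has flat quotient. -/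
theorem flat_quotient_of_regular [Module.Flat C B] {x : B}
    (hx : ∀ (I : Ideal C) (y : B), x * y ∈ I.map (algebraMap C B) → y ∈ I.map (algebraMap C B)) :
    Module.Flat C (B ⧸ Ideal.span {x}) := by
  rw [flat_iff]
  intro I
  rw [injective_iff_map_eq_zero]
  intro q hq
  obtain ⟨z, rfl⟩ := LinearMap.rTensor_surjective (g := (Ideal.Quotient.mkₐ C (Ideal.span {x})).toLinearMap) I
    (Ideal.Quotient.mkₐ_surjective C (Ideal.span {x})) q
  rw [mu_mk, Ideal.Quotient.eq_zero_iff_mem] at hq
  obtain ⟨m, hm⟩ := Ideal.mem_span_singleton'.mp hq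
  obtain ⟨w, hw⟩ := exists_mu I (hx I m (by rw [mul_comm, hm]; exact mu_mem I z))
  have hzw : z = x • w := flat_iff.mp inferInstance I (by rw [map_smul, smul_eq_mul, hw, mul_comm, hm])
  subst hzw
  have key : ∀ w : B ⊗[C] I, (Ideal.Quotient.mkₐ C (Ideal.span {x})).toLinearMap.rTensor I (x • w) = 0 := by
    intro w
    induction w with
    | zero => simp
    | add a b ha hb => rw [smul_add, map_add, ha, hb, add_zero]
    | tmul b i =>
      rw [TensorProduct.smul_tmul', LinearMap.rTensor_tmul]
      have : (Ideal.Quotient.mkₐ C (Ideal.span {x})).toLinearMap (x • b) = 0 :=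
        Ideal.Quotient.eq_zero_iff_mem.mpr (Ideal.mul_mem_right _ _ (Ideal.mem_span_singleton_self x))
      rw [this, zero_tmul]
  exact key w

/-- If `B / K` is flat, then `K ∩ I B = I K`. -/
theorem mem_smul_of_flat_quotient (K : Ideal B) [Module.Flat C (B ⧸ K)] (I : Ideal C) {y : B}
    (hy : y ∈ I.map (algebraMap C B)) (hyK : y ∈ K) : y ∈ K * I.map (algebraMap C B) := by
  obtain ⟨z, rfl⟩ := exists_mu I hy
  have hz := mem_smul_top_of_mk_eq_zero K I z (flat_iff.mp inferInstance I (by
    rw [map_zero, mu_mk, Ideal.Quotient.eq_zero_iff_mem.mpr hyK]))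
  refine Submodule.smul_induction_on hz (fun k hk w _ => ?_) (fun a b ha hb => ?_)
  · rw [map_smul, smul_eq_mul]; exact Ideal.mul_mem_mul hk (mu_mem I w)
  · rw [map_add]; exact add_mem ha hb

/-- Regularity of a list modulo an ideal. -/
def RegMod (K : Ideal B) (rs : List B) : Prop :=
  ∀ (i : ℕ) (h : i < rs.length) (y : B),
    rs[i] * y ∈ K ⊔ Ideal.ofList (rs.take i) → y ∈ K ⊔ Ideal.ofList (rs.take i)

theorem isWeaklyRegular_iff_regMod {A : Type u} [CommRing A] (rs : List A) :
    RingTheory.Sequence.IsWeaklyRegular A rs ↔ RegMod (⊥ : Ideal A) rs := by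
  rw [RingTheory.Sequence.isWeaklyRegular_iff]
  refine forall₂_congr fun i h => ?_
  rw [bot_sup_eq, smul_eq_mul, Ideal.mul_top, isSMulRegular_iff_right_eq_zero_of_smul]
  constructor
  · intro H y hy
    exact (Submodule.Quotient.mk_eq_zero _).mp (H (Submodule.Quotient.mk y) (by
      rw [← Submodule.Quotient.mk_smul]; exact (Submodule.Quotient.mk_eq_zero _).mpr hy))
  · intro H q hq
    obtain ⟨y, rfl⟩ := Submodule.Quotient.mk_surjective _ q
    rw [← Submodule.Quotient.mk_smul, Submodule.Quotient.mk_eq_zero] at hq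
    exact (Submodule.Quotient.mk_eq_zero _).mpr (H y hq)

variable (C) in
theorem flat_quotQuot (L : Ideal B) (x : B) :
    Module.Flat C ((B ⧸ L) ⧸ Ideal.span {Ideal.Quotient.mk L x}) ↔ Module.Flat C (B ⧸ (L ⊔ Ideal.span {x})) := by
  have e := (Ideal.quotientEquivAlgOfEq C (show Ideal.span {Ideal.Quotient.mk L x} =
      (Ideal.span {x}).map (Ideal.Quotient.mkₐ C L) by rw [Ideal.map_span, Set.image_singleton]; rfl)).trans
    (DoubleQuot.quotQuotEquivQuotSupₐ C L (Ideal.span {x}))
  exact ⟨fun _ => Module.Flat.of_linearEquiv e.toLinearEquiv.symm, fun _ => Module.Flat.of_linearEquiv e.toLinearEquiv⟩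

theorem mk_mem_map_iff (L : Ideal B) (I : Ideal C) (y : B) :
    Ideal.Quotient.mk L y ∈ I.map (algebraMap C (B ⧸ L)) ↔ y ∈ I.map (algebraMap C B) ⊔ L := by
  rw [IsScalarTower.algebraMap_eq C B (B ⧸ L), ← Ideal.map_map, Ideal.Quotient.algebraMap_eq, ← Ideal.mem_comap,
    Ideal.comap_map_of_surjective' _ Ideal.Quotient.mk_surjective, Ideal.mk_ker]

theorem ofList_take_succ (rs : List B) {i : ℕ} (h : i < rs.length) :
    Ideal.ofList (rs.take (i + 1)) = Ideal.ofList (rs.take i) ⊔ Ideal.span {rs[i]} := by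
  rw [List.take_add_one, Ideal.ofList_append, List.getElem?_eq_getElem h, Option.toList_some,
    Ideal.ofList_singleton]

/-- A regular sequence in the radical with flat quotient: flat intermediate quotients, regular modulo the base. -/
theorem descend [IsNoetherianRing C] [IsNoetherianRing B] (rs : List B)
    (hj : ∀ r ∈ rs, r ∈ (⊥ : Ideal B).jacobson) (hreg : RegMod (⊥ : Ideal B) rs)
    [Module.Flat C (B ⧸ Ideal.ofList rs)] :
    (∀ i ≤ rs.length, Module.Flat C (B ⧸ Ideal.ofList (rs.take i))) ∧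
      ∀ I : Ideal C, RegMod (I.map (algebraMap C B)) rs := by
  have hx : ∀ (i : ℕ) (h : i < rs.length) (q : B ⧸ Ideal.ofList (rs.take i)),
      Ideal.Quotient.mk _ rs[i] * q = 0 → q = 0 := by
    intro i h q hq
    obtain ⟨y, rfl⟩ := Ideal.Quotient.mk_surjective q
    rw [← map_mul, Ideal.Quotient.eq_zero_iff_mem] at hq
    rw [Ideal.Quotient.eq_zero_iff_mem]
    simpa using hreg i h y (by simpa using hq)
  have hfl : ∀ i ≤ rs.length, Module.Flat C (B ⧸ Ideal.ofList (rs.take i)) := by
    intro i hi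
    induction hi using Nat.decreasingInduction with
    | self => rw [List.take_length]; assumption
    | of_succ i hi ih =>
      rw [ofList_take_succ rs hi, ← flat_quotQuot] at ih
      refine flat_of_flat_quotient (hx i hi) ?_
      refine Ideal.mem_jacobson_bot.mpr fun q => ?_
      obtain ⟨y, rfl⟩ := Ideal.Quotient.mk_surjective q
      rw [← map_mul, ← map_one (Ideal.Quotient.mk _), ← map_add]
      exact (Ideal.mem_jacobson_bot.mp (hj _ (List.getElem_mem hi)) y).map _
  refine ⟨hfl, fun I i h y hy => ?_⟩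
  have := hfl (i + 1) h
  rw [ofList_take_succ rs h, ← flat_quotQuot] at this
  rw [← mk_mem_map_iff] at hy ⊢
  rw [map_mul] at hy
  exact mem_map_of_mul_mem_of_flat (hx i h) I hy

/-- Regular on the closed fibre, over an Artinian local base: flat quotients and regular. -/
theorem ascend [IsLocalRing C] [IsArtinianRing C] [Module.Flat C B] (rs : List B)
    (hreg : RegMod ((IsLocalRing.maximalIdeal C).map (algebraMap C B)) rs) :
    (∀ i ≤ rs.length, Module.Flat C (B ⧸ Ideal.ofList (rs.take i))) ∧
      ∀ I : Ideal C, RegMod (I.map (algebraMap C B)) rs := by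
  have hkey : ∀ (i : ℕ) (h : i < rs.length), Module.Flat C (B ⧸ Ideal.ofList (rs.take i)) →
      ∀ (I : Ideal C) (q : B ⧸ Ideal.ofList (rs.take i)),
        Ideal.Quotient.mk _ rs[i] * q ∈ I.map (algebraMap C _) → q ∈ I.map (algebraMap C _) := by
    intro i h _ I
    refine CodimOneFlat.mem_map_of_mul_mem (fun q hq => ?_) I
    obtain ⟨y, rfl⟩ := Ideal.Quotient.mk_surjective q
    rw [← map_mul, mk_mem_map_iff] at hq
    exact (mk_mem_map_iff _ _ _).mpr (hreg i h y hq)
  have hfl : ∀ i ≤ rs.length, Module.Flat C (B ⧸ Ideal.ofList (rs.take i)) := by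
    intro i hi
    induction i with
    | zero =>
      rw [List.take_zero, Ideal.ofList_nil]
      exact Module.Flat.of_linearEquiv (AlgEquiv.quotientBot C B).toLinearEquiv
    | succ i ih =>
      have h : i < rs.length := hi
      haveI := ih h.le
      rw [ofList_take_succ rs h, ← flat_quotQuot]
      exact flat_quotient_of_regular (hkey i h this)
  refine ⟨hfl, fun I i h y hy => ?_⟩
  rw [← mk_mem_map_iff] at hy ⊢
  rw [map_mul] at hy
  exact hkey i h (hfl i h.le) I _ hy

end Groth.Agent.ArtinFlat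

namespace Groth.Agent.ArtinFlat

theorem comap_sup_ofList {A A' : Type u} [CommRing A] [CommRing A'] {π : A →+* A'} (hπ : Function.Surjective π)
    (K' : Ideal A') (l : List A) :
    (K' ⊔ Ideal.ofList (l.map π)).comap π = K'.comap π ⊔ Ideal.ofList l := by
  rw [← Ideal.map_ofList]
  conv_lhs => rw [← Ideal.map_comap_of_surjective π hπ K', ← Ideal.map_sup,
    Ideal.comap_map_of_surjective π hπ]
  refine sup_eq_left.mpr ?_
  exact le_sup_of_le_left (Ideal.comap_mono bot_le)

theorem regMod_comap {A A' : Type u} [CommRing A] [CommRing A'] {π : A →+* A'} (hπ : Function.Surjective π)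
    (K' : Ideal A') (rs : List A) (h : RegMod K' (rs.map π)) : RegMod (K'.comap π) rs := by
  intro i hi y hy
  rw [← comap_sup_ofList hπ, Ideal.mem_comap, List.map_take] at hy ⊢
  refine h i (by rwa [List.length_map]) (π y) ?_
  rw [List.getElem_map, ← map_mul]
  exact hy

theorem ofList_ofFn {A : Type u} [CommRing A] {r : ℕ} (a : Fin r → A) :
    Ideal.ofList (List.ofFn a) = Ideal.span (Set.range a) := by
  refine le_antisymm (Ideal.span_le.mpr fun x hx => ?_) (Ideal.span_le.mpr ?_)
  · obtain ⟨i, rfl⟩ := (List.mem_ofFn' a x).mp hx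
    exact Ideal.subset_span ⟨i, rfl⟩
  · rintro _ ⟨i, rfl⟩
    exact Ideal.subset_span ((List.mem_ofFn' a _).mpr ⟨i, rfl⟩)

theorem isUnit_of_isUnit_mk {A : Type u} [CommRing A] {N : Ideal A} (hN : IsNilpotent N) {a : A}
    (h : IsUnit (Ideal.Quotient.mk N a)) : IsUnit a := by
  obtain ⟨q, hq⟩ := h.exists_right_inv
  obtain ⟨b, rfl⟩ := Ideal.Quotient.mk_surjective q
  rw [← map_mul, ← map_one (Ideal.Quotient.mk N), Ideal.Quotient.eq] at hq
  obtain ⟨n, hn⟩ := hN
  have hnil : IsNilpotent (a * b - 1) := ⟨n, by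
    have := Ideal.pow_mem_pow hq n
    rw [hn] at this
    exact this⟩
  have := hnil.isUnit_one_add
  rw [add_sub_cancel] at this
  exact isUnit_of_mul_isUnit_left this

theorem isLocalRing_of_isNilpotent {A : Type u} [CommRing A] {N : Ideal A} (hN : IsNilpotent N)
    [IsLocalRing (A ⧸ N)] : IsLocalRing A := by
  haveI : Nontrivial A := Function.Surjective.nontrivial (Ideal.Quotient.mk_surjective (I := N))
  refine IsLocalRing.of_nonunits_add fun a b ha hb hu => ?_
  have h := hu.map (Ideal.Quotient.mk N)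
  rw [map_add] at h
  rcases IsLocalRing.isUnit_or_isUnit_of_isUnit_add h with h' | h'
  · exact ha (isUnit_of_isUnit_mk hN h')
  · exact hb (isUnit_of_isUnit_mk hN h')

theorem isNoetherianRing_of_isNilpotent {A : Type u} [CommRing A] {N : Ideal A} (hN : IsNilpotent N)
    (hfg : N.FG) [IsNoetherianRing (A ⧸ N)] : IsNoetherianRing A := by
  refine IsNoetherianRing.of_prime fun P hP => ?_
  obtain ⟨n, hn⟩ := hN
  have hle : N ≤ P := fun x hx => hP.mem_of_pow_mem n (by
    have := Ideal.pow_mem_pow hx n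
    rw [hn] at this
    exact (Submodule.mem_bot A).mp this ▸ P.zero_mem)
  obtain ⟨s, hs⟩ := IsNoetherian.noetherian (P.map (Ideal.Quotient.mk N))
  classical
  choose g hg using fun x : A ⧸ N => Ideal.Quotient.mk_surjective (I := N) x
  have hP' : P = Ideal.span (g '' (s : Set (A ⧸ N))) ⊔ N := by
    have h1 : P.map (Ideal.Quotient.mk N) = (Ideal.span (g '' (s : Set (A ⧸ N)))).map (Ideal.Quotient.mk N) := by
      rw [Ideal.map_span, Set.image_image, Set.image_congr fun x _ => hg x, Set.image_id', ← hs]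
    have h2 := congrArg (Ideal.comap (Ideal.Quotient.mk N)) h1
    rwa [Ideal.comap_map_of_surjective' _ Ideal.Quotient.mk_surjective,
      Ideal.comap_map_of_surjective' _ Ideal.Quotient.mk_surjective, Ideal.mk_ker, sup_eq_left.mpr hle] at h2
  rw [hP']
  exact Submodule.FG.sup (Submodule.fg_span ((s.finite_toSet).image g)) hfg

/-- The structure of a flat deformation of a Noetherian local ring over an Artinian local ring. -/
theorem deformation_props (C A : Type u) [CommRing C] [IsLocalRing C] [IsArtinianRing C] [CommRing A] [Algebra C A]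
    [IsNoetherianRing (A ⧸ (IsLocalRing.maximalIdeal C).map (algebraMap C A))]
    [IsLocalRing (A ⧸ (IsLocalRing.maximalIdeal C).map (algebraMap C A))] :
    IsNilpotent ((IsLocalRing.maximalIdeal C).map (algebraMap C A)) ∧ IsNoetherianRing A ∧ IsLocalRing A := by
  have h : IsNilpotent ((IsLocalRing.maximalIdeal C).map (algebraMap C A)) := by
    obtain ⟨n, hn⟩ := CodimOneFlat.maximalIdeal_pow_eq_bot (A := C)
    exact ⟨n, by rw [← Ideal.map_pow, hn, Ideal.map_bot]; rfl⟩
  exact ⟨h, isNoetherianRing_of_isNilpotent h (Ideal.FG.map (IsNoetherian.noetherian _) _),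
    isLocalRing_of_isNilpotent h⟩

/-- A list regular modulo the closed fibre, all of whose images are non units, is regular. -/
theorem isRegular_of_regMod {C : Type u} [CommRing C] {A : Type u} [CommRing A] [Algebra C A] {rs : List A}
    (h : RegMod ((⊥ : Ideal C).map (algebraMap C A)) rs) (hne : Ideal.ofList rs ≠ ⊤) :
    RingTheory.Sequence.IsRegular A rs := by
  rw [Ideal.map_bot] at h
  refine ⟨(isWeaklyRegular_iff_regMod rs).mpr h, ?_⟩
  rw [smul_eq_mul, Ideal.mul_top]
  exact hne.symm

end Groth.Agent.ArtinFlat
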