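import Mathlib
import Groth.Agent.ArtinFlat.RegSeq
import Groth.Agent.Catenary.CM
import Groth.Agent.FlatAscent.Smooth
import Groth.Agent.S14424

/-!
# Deformations of determinantal ideals of codimension two
-/

set_option autoImplicit false

universe u

open Matrix

namespace Groth.Agent.ArtinFlat.HB

variable {r : ℕ}

/-- The signed maximal minors. -/
def minors {A : Type u} [CommRing A] (φ : Matrix (Fin (r + 1)) (Fin r) A) (i : Fin (r + 1)) : A :=
  (-1 : A) ^ (i : ℕ) * (φ.submatrix i.succAbove id).det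

theorem map_minors {A B : Type u} [CommRing A] [CommRing B] (π : A →+* B) (φ : Matrix (Fin (r + 1)) (Fin r) A)
    (i : Fin (r + 1)) : π (minors φ i) = minors (φ.map π) i := by
  simp only [minors, map_mul, map_pow, map_neg, map_one, RingHom.map_det]
  rfl

theorem sum_minors_mul {A : Type u} [CommRing A] (φ : Matrix (Fin (r + 1)) (Fin r) A) (c : Fin r) :
    ∑ i, minors φ i * φ i c = 0 := by
  let M : Matrix (Fin (r + 1)) (Fin (r + 1)) A := Matrix.of fun i j => Fin.cases (φ i c) (φ i) j
  have h0 : M.det = 0 := Matrix.det_zero_of_column_eq (Fin.succ_ne_zero c).symm (fun i => by simp [M])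
  rw [Matrix.det_succ_column_zero] at h0
  rw [← h0]
  refine Finset.sum_congr rfl fun i _ => ?_
  have h1 : M.submatrix i.succAbove Fin.succ = φ.submatrix i.succAbove id := by ext a b; simp [M]
  have h2 : M i 0 = φ i c := by simp [M]
  rw [h1, h2, minors]
  ring

/-- A row killing `φ` is proportional to the minors. -/
theorem minors_mul_comm {A : Type u} [CommRing A] (φ : Matrix (Fin (r + 1)) (Fin r) A) (h : Fin (r + 1) → A)
    (hh : ∀ c, ∑ k, h k * φ k c = 0) (i j : Fin (r + 1)) : minors φ j * h i = h j * minors φ i := by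
  let M : Matrix (Fin (r + 1)) (Fin (r + 1)) A :=
    Matrix.of fun k l => Fin.cases (if k = j then 1 else 0) (φ k) l
  have h1 : ∀ k : Fin (r + 1), M.submatrix k.succAbove Fin.succ = φ.submatrix k.succAbove id := fun k => by
    ext a b; simp [M]
  have hdet : M.det = minors φ j := by
    rw [Matrix.det_succ_column_zero, Finset.sum_eq_single j (fun k _ hk => by simp [M, hk]) (by simp), h1, minors]
    simp [M]
  have hadj : M.adjugate 0 i = minors φ i := by
    rw [Matrix.adjugate_fin_succ_eq_det_submatrix, Fin.succAbove_zero, h1, minors]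
    simp
  have hv : ∀ l, (h ᵥ* M) l = Fin.cases (h j) (fun _ => 0) l := by
    intro l
    refine Fin.cases ?_ (fun c => ?_) l
    · simp [Matrix.vecMul, dotProduct, M]
    · simp [Matrix.vecMul, dotProduct, M, hh c]
  have key := congrFun (Matrix.vecMul_vecMul h M M.adjugate) i
  rw [Matrix.mul_adjugate, Matrix.vecMul_smul, Matrix.vecMul_one, hdet, Pi.smul_apply, smul_eq_mul] at key
  rw [← key]
  show ∑ l, (h ᵥ* M) l * M.adjugate l i = _
  rw [Fin.sum_univ_succ]
  simp [hv, hadj]

/-- With two elements of the ideal of minors forming a regular sequence, such a row is a multiple. -/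
theorem exists_multiple {A : Type u} [CommRing A] (φ : Matrix (Fin (r + 1)) (Fin r) A) (h : Fin (r + 1) → A)
    (hh : ∀ c, ∑ k, h k * φ k c = 0) (a b : A) (ha : a ∈ Ideal.span (Set.range (minors φ)))
    (hb : b ∈ Ideal.span (Set.range (minors φ))) (hareg : ∀ y, a * y = 0 → y = 0)
    (hbreg : ∀ y z, b * y = a * z → ∃ w, y = a * w) : ∃ t, ∀ i, h i = t * minors φ i := by
  obtain ⟨α, hα⟩ := Ideal.mem_span_range_iff_exists_fun.mp ha
  obtain ⟨β, hβ⟩ := Ideal.mem_span_range_iff_exists_fun.mp hb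
  set P := ∑ j, α j * h j with hP
  set Q := ∑ j, β j * h j with hQ
  have hcomb : ∀ (γ : Fin (r + 1) → A) (i : Fin (r + 1)),
      (∑ j, γ j * minors φ j) * h i = (∑ j, γ j * h j) * minors φ i := fun γ i => by
    rw [Finset.sum_mul, Finset.sum_mul]
    exact Finset.sum_congr rfl fun j _ => by rw [mul_assoc, minors_mul_comm φ h hh i j, mul_assoc]
  have h1 : ∀ i, a * h i = P * minors φ i := fun i => by rw [← hα, hcomb, hP]
  have h2 : ∀ i, b * h i = Q * minors φ i := fun i => by rw [← hβ, hcomb, hQ]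
  have h3 : a * (b * P - a * Q) = 0 := by
    rw [← hα, Finset.sum_mul]
    refine Finset.sum_eq_zero fun j _ => ?_
    rw [hα]
    linear_combination α j * a * h2 j - α j * b * h1 j
  obtain ⟨w, hw⟩ := hbreg P Q (sub_eq_zero.mp (hareg _ h3))
  refine ⟨w, fun i => sub_eq_zero.mp (hareg _ ?_)⟩
  rw [mul_sub, h1, hw]
  ring

/-- In a regular ring an ideal of height at least two contains a regular sequence of length two. -/
theorem exists_pair {A : Type u} [CommRing A] [IsRegularRing A] (F : Ideal A)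
    (hF : ∀ p : Ideal A, p.IsPrime → F ≤ p → (2 : ℕ∞) ≤ p.height) :
    ∃ a ∈ F, ∃ b ∈ F, (∀ y, a * y = 0 → y = 0) ∧ ∀ y z, b * y = a * z → ∃ w, y = a * w := by
  rcases eq_or_ne F ⊤ with rfl | hne
  · exact ⟨1, trivial, 0, trivial, fun y hy => by simpa using hy, fun y _ _ => ⟨y, (one_mul y).symm⟩⟩
  haveI : IsNoetherianRing A := inferInstance
  have hh : (2 : ℕ∞) ≤ F.height := by
    rw [Ideal.height_eq_inf_minimalPrimes]
    exact le_iInf₂ fun q hq => hF q hq.1.1 hq.1.2
  rw [← (S14424.result A).mp (Catenary.isCohenMacaulayRing_of_isRegularRing A) F hne] at hh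
  obtain ⟨rs, hlen, hreg, hrs⟩ := (DepthLib.natCast_le_idealDepth_iff (n := 2)).mp hh
  match rs, hlen with
  | [a, b], _ =>
    have h := (isWeaklyRegular_iff_regMod [a, b]).mp hreg
    refine ⟨a, hrs a (by simp), b, hrs b (by simp), fun y hy => ?_, fun y z hyz => ?_⟩
    · have := h 0 (by simp) y (by simp [hy])
      simpa using this
    · have := h 1 (by simp) y (by
        simp only [List.take_succ_cons, List.take_zero, Ideal.ofList_singleton, bot_sup_eq]
        exact Ideal.mem_span_singleton'.mpr ⟨z, by simp [hyz, mul_comm]⟩)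
      simp only [List.take_succ_cons, List.take_zero, Ideal.ofList_singleton, bot_sup_eq] at this
      obtain ⟨w, hw⟩ := Ideal.mem_span_singleton'.mp this
      exact ⟨w, by rw [← hw, mul_comm]⟩

theorem isRegularRing_of_smooth (k A : Type u) [Field k] [CommRing A] [Algebra k A] [Algebra.Smooth k A] :
    IsRegularRing A := by
  haveI := FlatAscent.isGeometricallyRegular_of_smooth (k := k) (S := A) k inferInstance
  exact IsRegularRing.of_ringEquiv (Algebra.TensorProduct.lid k A).toRingEquiv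

section Deform

variable {C : Type u} [CommRing C] [IsLocalRing C] [IsArtinianRing C] {A : Type u} [CommRing A] [Algebra C A]
  [Module.Flat C A]

local notation3 "mA" => Ideal.map (algebraMap C A) (IsLocalRing.maximalIdeal C)

/-- One step: from `K = K' + (e)` to `K'`. -/
theorem step (I : Ideal A) [Module.Flat C (A ⧸ I)] (K' : Ideal C) (e : C) (he : e ∈ IsLocalRing.maximalIdeal C)
    (heK : e ∉ K') (hme : ∀ μ ∈ IsLocalRing.maximalIdeal C, μ * e ∈ K') (hK' : K' ≤ IsLocalRing.maximalIdeal C)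
    (φ : Matrix (Fin (r + 1)) (Fin r) A)
    (hI : Ideal.span (Set.range (minors φ)) ⊔ (K' ⊔ Ideal.span {e}).map (algebraMap C A) =
      I ⊔ (K' ⊔ Ideal.span {e}).map (algebraMap C A))
    (hmult : ∀ h : Fin (r + 1) → A, (∀ c, ∑ k, h k * φ k c ∈ mA) → ∃ t, ∀ k, h k - t * minors φ k ∈ mA) :
    ∃ φ' : Matrix (Fin (r + 1)) (Fin r) A,
      (∀ i j, φ' i j - φ i j ∈ (K' ⊔ Ideal.span {e}).map (algebraMap C A)) ∧
      Ideal.span (Set.range (minors φ')) ⊔ K'.map (algebraMap C A) = I ⊔ K'.map (algebraMap C A) := by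
  set E := algebraMap C A e with hE
  set KA := (K' ⊔ Ideal.span {e}).map (algebraMap C A) with hKA
  have hKA' : KA = K'.map (algebraMap C A) ⊔ Ideal.span {E} := by
    rw [hKA, Ideal.map_sup, Ideal.map_span, Set.image_singleton]
  have hEm : E ∈ mA := Ideal.mem_map_of_mem _ he
  have hEK : ∀ y ∈ mA, E * y ∈ K'.map (algebraMap C A) := by
    intro y hy
    have h1 := Ideal.mul_mem_mul (Ideal.mem_map_of_mem (algebraMap C A) (Ideal.mem_span_singleton_self e)) hy
    rw [← Ideal.map_mul] at h1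
    refine Ideal.map_mono (Ideal.span_singleton_mul_le_iff.mpr fun μ hμ => ?_) h1
    rw [mul_comm]
    exact hme μ hμ
  have hcancel : ∀ y, E * y ∈ K'.map (algebraMap C A) → y ∈ mA := fun y hy =>
    CodimOneFlat.mem_map_maximalIdeal_of_mul_mem heK hy
  have hKm : KA ≤ mA := Ideal.map_mono (sup_le hK' ((Ideal.span_singleton_le_iff_mem _).mpr he))
  set F := Ideal.span (Set.range (minors φ)) with hF
  have hdec : ∀ x ∈ KA, ∃ i ∈ K'.map (algebraMap C A), ∃ d, x = i + E * d := by
    intro x hx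
    rw [hKA'] at hx
    obtain ⟨i, hi, y, hy, rfl⟩ := Submodule.mem_sup.mp hx
    obtain ⟨d, rfl⟩ := Ideal.mem_span_singleton'.mp hy
    exact ⟨i, hi, d, by rw [mul_comm]⟩
  have hIK : ∀ x ∈ I * KA, ∃ s ∈ F ⊔ mA, x - E * s ∈ K'.map (algebraMap C A) := by
    intro x hx
    refine Submodule.mul_induction_on hx (fun z hz y hy => ?_) ?_
    · obtain ⟨i, hi, d, rfl⟩ := hdec y hy
      refine ⟨z * d, Ideal.mul_mem_right _ _ (sup_le_sup_left hKm _ (hI ▸ Submodule.mem_sup_left hz)), ?_⟩
      have : z * (i + E * d) - E * (z * d) = z * i := by ring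
      rw [this]
      exact Ideal.mul_mem_left _ _ hi
    · rintro a b ⟨s, hs, hs'⟩ ⟨s', hs1, hs2⟩
      refine ⟨s + s', add_mem hs hs1, ?_⟩
      convert add_mem hs' hs2 using 1
      ring
  have hg : ∀ k, ∃ g ∈ I, g - minors φ k ∈ KA := by
    intro k
    have : minors φ k ∈ I ⊔ KA := hI ▸ Submodule.mem_sup_left (Ideal.subset_span ⟨k, rfl⟩)
    obtain ⟨g, hgI, t, ht, hgt⟩ := Submodule.mem_sup.mp this
    exact ⟨g, hgI, by rw [← hgt, sub_add_cancel_left]; exact KA.neg_mem ht⟩
  choose g hgI hgK using hg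
  choose i' hi' d hd using fun k => hdec _ (hgK k)
  -- the difference kills `φ` modulo the minors
  have hdφ : ∀ c, ∃ n : Fin (r + 1) → A, (∑ k, d k * φ k c) - ∑ k, n k * minors φ k ∈ mA := by
    intro c
    have hsum : ∑ k, (g k - minors φ k) * φ k c = ∑ k, g k * φ k c := by
      simp only [sub_mul, Finset.sum_sub_distrib, sum_minors_mul, sub_zero]
    have h1 : ∑ k, g k * φ k c ∈ I * KA := by
      have hle : I * (K' ⊔ Ideal.span {e}).map (algebraMap C A) ≤ I * KA := le_rfl
      refine hle (mem_smul_of_flat_quotient I _ ?_ (I.sum_mem fun k _ => I.mul_mem_right _ (hgI k)))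
      rw [← hsum]
      exact Ideal.sum_mem _ fun k _ => Ideal.mul_mem_right _ _ (hgK k)
    obtain ⟨s, hs, hs'⟩ := hIK _ h1
    obtain ⟨l, hl, m', hm', rfl⟩ := Submodule.mem_sup.mp hs
    obtain ⟨n, rfl⟩ := Ideal.mem_span_range_iff_exists_fun.mp hl
    refine ⟨n, ?_⟩
    have h2 : E * ((∑ k, d k * φ k c) - (∑ k, n k * minors φ k + m')) ∈ K'.map (algebraMap C A) := by
      have h3 : ∑ k, g k * φ k c = (∑ k, i' k * φ k c) + E * ∑ k, d k * φ k c := by
        rw [← hsum, Finset.mul_sum, ← Finset.sum_add_distrib]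
        exact Finset.sum_congr rfl fun k _ => by rw [hd k]; ring
      rw [h3] at hs'
      convert sub_mem hs' (Ideal.sum_mem (t := Finset.univ) (f := fun k => i' k * φ k c) _
        fun k _ => Ideal.mul_mem_right _ _ (hi' k)) using 1
      ring
    simpa [sub_add_eq_sub_sub] using add_mem (hcancel _ h2) hm'
  choose n hn using hdφ
  let φ' : Matrix (Fin (r + 1)) (Fin r) A := Matrix.of fun k c => φ k c - E * n c k
  have hφ' : ∀ k c, φ' k c - φ k c ∈ KA := fun k c => by
    rw [hKA']
    refine Submodule.mem_sup_right (Ideal.mem_span_singleton'.mpr ⟨-n c k, ?_⟩)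
    simp [φ']; ring
  refine ⟨φ', hφ', ?_⟩
  have hmin : ∀ k, ∃ e1, minors φ' k = minors φ k + E * e1 := by
    intro k
    have hmap : φ'.map (Ideal.Quotient.mk (Ideal.span {E})) = φ.map (Ideal.Quotient.mk (Ideal.span {E})) := by
      ext a b
      simp only [Matrix.map_apply, φ', Matrix.of_apply]
      rw [Ideal.Quotient.eq, sub_sub_cancel_left, Submodule.neg_mem_iff]
      exact Ideal.mul_mem_right _ _ (Ideal.mem_span_singleton_self E)
    have := map_minors (Ideal.Quotient.mk (Ideal.span {E})) φ' k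
    rw [hmap, ← map_minors, Ideal.Quotient.eq] at this
    obtain ⟨e1, he1⟩ := Ideal.mem_span_singleton'.mp this
    exact ⟨e1, by linear_combination -he1⟩
  choose e1 he1 using hmin
  obtain ⟨t, ht⟩ := hmult (fun k => d k - e1 k) fun c => by
    have h0 := sum_minors_mul φ' c
    have hexp : ∑ k, minors φ' k * φ' k c = E * ((∑ k, e1 k * φ k c) - (∑ k, n c k * minors φ k) -
        E * ∑ k, e1 k * n c k) + ∑ k, minors φ k * φ k c := by
      simp only [Finset.mul_sum, ← Finset.sum_sub_distrib, ← Finset.sum_add_distrib]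
      refine Finset.sum_congr rfl fun k _ => ?_
      rw [he1 k]; simp only [φ', Matrix.of_apply]; ring
    rw [hexp, sum_minors_mul, add_zero] at h0
    have h4 := hcancel _ (h0 ▸ Submodule.zero_mem _)
    have h5 := add_mem h4 (Ideal.mul_mem_right (∑ k, e1 k * n c k) _ hEm)
    rw [sub_add_cancel] at h5
    convert sub_mem (hn c) h5 using 1
    simp only [sub_mul, Finset.sum_sub_distrib]
    ring
  have hgf : ∀ k, g k - (1 + E * t) * minors φ' k ∈ K'.map (algebraMap C A) := by
    intro k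
    have h6 : g k - (1 + E * t) * minors φ' k =
        i' k + E * ((d k - e1 k - t * minors φ k) - E * (t * e1 k)) := by
      rw [he1 k]
      linear_combination hd k
    rw [h6]
    exact add_mem (hi' k) (hEK _ (sub_mem (ht k) (Ideal.mul_mem_right _ _ hEm)))
  obtain ⟨N, hN⟩ : IsNilpotent mA := by
    obtain ⟨N, hN⟩ := CodimOneFlat.maximalIdeal_pow_eq_bot (A := C)
    exact ⟨N, by rw [← Ideal.map_pow, hN, Ideal.map_bot]; rfl⟩
  have hu : IsUnit (1 + E * t) := by
    refine IsNilpotent.isUnit_one_add ⟨N, ?_⟩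
    have := Ideal.pow_mem_pow (Ideal.mul_mem_right t _ hEm) N
    rw [hN] at this
    exact this
  set G := Ideal.span (Set.range g) with hG
  have hIG : I ≤ G := by
    have h1 : I ≤ G ⊔ mA * I := by
      intro z hz
      have hz' : z ∈ F ⊔ KA := hI ▸ Submodule.mem_sup_left hz
      obtain ⟨l, hl, x, hx, rfl⟩ := Submodule.mem_sup.mp hz'
      obtain ⟨c, rfl⟩ := Ideal.mem_span_range_iff_exists_fun.mp hl
      have hy : (∑ k, c k * minors φ k + x) - ∑ k, c k * g k ∈ KA := by
        rw [add_sub_right_comm, ← Finset.sum_sub_distrib]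
        refine add_mem (Ideal.sum_mem _ fun k _ => ?_) hx
        rw [← mul_sub]
        exact Ideal.mul_mem_left _ _ (by rw [← neg_sub]; exact KA.neg_mem (hgK k))
      have hy' : (∑ k, c k * minors φ k + x) - ∑ k, c k * g k ∈ I :=
        I.sub_mem hz (I.sum_mem fun k _ => I.mul_mem_left _ (hgI k))
      have := mem_smul_of_flat_quotient I (K' ⊔ Ideal.span {e}) hy hy'
      rw [mul_comm] at this
      have h2 := Submodule.add_mem_sup (show ∑ k, c k * g k ∈ G from
        Ideal.sum_mem _ fun k _ => Ideal.mul_mem_left _ _ (Ideal.subset_span ⟨k, rfl⟩)) (Ideal.mul_mono_left hKm this)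
      rwa [add_sub_cancel] at h2
    have h2 : ∀ j : ℕ, I ≤ G ⊔ mA ^ j * I := by
      intro j
      induction j with
      | zero => rw [pow_zero, one_mul]; exact le_sup_right
      | succ j ih =>
        refine ih.trans (sup_le le_sup_left ((Ideal.mul_mono_right h1).trans ?_))
        rw [Ideal.mul_sup, pow_succ, mul_assoc]
        exact sup_le_sup_right Ideal.mul_le_right _
    have := h2 N
    rwa [hN, Submodule.zero_eq_bot, Ideal.bot_mul, sup_bot_eq] at this
  refine le_antisymm (sup_le (Ideal.span_le.mpr ?_) le_sup_right) (sup_le (hIG.trans (Ideal.span_le.mpr ?_)) le_sup_right)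
  · rintro _ ⟨k, rfl⟩
    obtain ⟨v, hv⟩ := hu.exists_left_inv
    have : minors φ' k = v * g k + -(v * (g k - (1 + E * t) * minors φ' k)) := by
      linear_combination (-minors φ' k) * hv
    rw [SetLike.mem_coe, this]
    exact Submodule.add_mem_sup (I.mul_mem_left _ (hgI k)) (neg_mem (Ideal.mul_mem_left _ _ (hgf k)))
  · rintro _ ⟨k, rfl⟩
    rw [SetLike.mem_coe, show g k = (1 + E * t) * minors φ' k + (g k - (1 + E * t) * minors φ' k) by ring]
    exact Submodule.add_mem_sup (Ideal.mul_mem_left _ _ (Ideal.subset_span ⟨k, rfl⟩)) (hgf k)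

/-- Descend from `K` to `0`. -/
theorem exists_lift (I : Ideal A) [Module.Flat C (A ⧸ I)]
    (φ₀ : Matrix (Fin (r + 1)) (Fin r) (A ⧸ mA)) (a b : A ⧸ mA)
    (ha : a ∈ Ideal.span (Set.range (minors φ₀))) (hb : b ∈ Ideal.span (Set.range (minors φ₀)))
    (hareg : ∀ y, a * y = 0 → y = 0) (hbreg : ∀ y z, b * y = a * z → ∃ w, y = a * w) :
    ∀ (K : Ideal C), K ≤ IsLocalRing.maximalIdeal C → ∀ φ : Matrix (Fin (r + 1)) (Fin r) A,
      φ.map (Ideal.Quotient.mk mA) = φ₀ →
      Ideal.span (Set.range (minors φ)) ⊔ K.map (algebraMap C A) = I ⊔ K.map (algebraMap C A) →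
      ∃ φ' : Matrix (Fin (r + 1)) (Fin r) A, (∀ i j, φ' i j - φ i j ∈ K.map (algebraMap C A)) ∧
        φ'.map (Ideal.Quotient.mk mA) = φ₀ ∧ Ideal.span (Set.range (minors φ')) = I := by
  intro K
  induction K using IsWellFounded.induction (α := Ideal C) (· < ·) with
  | ind K ih =>
  intro hKm φ hφ hI
  rcases eq_or_ne K ⊥ with rfl | hK
  · refine ⟨φ, fun i j => by simp, hφ, ?_⟩
    rwa [Ideal.map_bot, sup_bot_eq, sup_bot_eq] at hI
  obtain ⟨K', e, hlt, heK, heK', hKeq, hme⟩ := CodimOneFlat.exists_pred hK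
  have hK'm : K' ≤ IsLocalRing.maximalIdeal C := hlt.le.trans hKm
  have hmult : ∀ h : Fin (r + 1) → A, (∀ c, ∑ k, h k * φ k c ∈ mA) → ∃ t, ∀ k, h k - t * minors φ k ∈ mA := by
    intro h hh
    obtain ⟨t, ht⟩ := exists_multiple φ₀ (fun k => Ideal.Quotient.mk mA (h k)) (fun c => by
      rw [← hφ]
      have := Ideal.Quotient.eq_zero_iff_mem.mpr (hh c)
      rw [map_sum] at this
      simpa only [map_mul, Matrix.map_apply] using this) a b ha hb hareg hbreg
    obtain ⟨t', rfl⟩ := Ideal.Quotient.mk_surjective t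
    refine ⟨t', fun k => ?_⟩
    rw [← Ideal.Quotient.eq, map_mul, map_minors, hφ]
    exact ht k
  subst hKeq
  obtain ⟨φ₁, h1, h2⟩ := step I K' e (hKm (Submodule.mem_sup_right (Ideal.mem_span_singleton_self e))) heK' hme hK'm φ hI hmult
  have hφ₁ : φ₁.map (Ideal.Quotient.mk mA) = φ₀ := by
    rw [← hφ]
    ext i j
    simp only [Matrix.map_apply]
    exact Ideal.Quotient.eq.mpr (Ideal.map_mono hKm (h1 i j))
  obtain ⟨φ', h3, h4, h5⟩ := ih K' hlt hK'm φ₁ hφ₁ h2
  refine ⟨φ', fun i j => ?_, h4, h5⟩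
  have := add_mem (Ideal.map_mono hlt.le (h3 i j)) (h1 i j)
  rwa [sub_add_sub_cancel] at this

end Deform

end Groth.Agent.ArtinFlat.HB
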