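import Groth.Agent.ArtinFlat.RegSeq

/-!
# Regular sequences on flat algebras over Artinian local rings reduce to regular sequences
-/

set_option autoImplicit false
universe u

namespace Groth.Agent.ArtinFlat

variable {C : Type u} [CommRing C] [IsLocalRing C] [IsArtinianRing C] {B : Type u} [CommRing B] [Algebra C B]

theorem mem_maxMap_of_regular [Module.Flat C B] {x : B} (hx : ∀ y, x * y = 0 → y = 0) {y : B}
    (hy : x * y ∈ (IsLocalRing.maximalIdeal C).map (algebraMap C B)) :
    y ∈ (IsLocalRing.maximalIdeal C).map (algebraMap C B) := by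
  obtain ⟨a, ha, hma⟩ := CodimOneFlat.exists_succ (A := C) (I := ⊥) bot_ne_top
  refine CodimOneFlat.mem_map_maximalIdeal_of_mul_mem ha (I := ⊥) ?_
  have hle : (IsLocalRing.maximalIdeal C).map (algebraMap C B) ≤
      LinearMap.ker (LinearMap.mulLeft B (algebraMap C B a)) := by
    refine Ideal.map_le_iff_le_comap.2 fun μ hμ => ?_
    rw [Ideal.mem_comap, LinearMap.mem_ker, LinearMap.mulLeft_apply, ← map_mul, mul_comm,
      (Submodule.mem_bot C).1 (hma μ hμ), map_zero]
  have h0 : algebraMap C B a * (x * y) = 0 := LinearMap.mem_ker.1 (hle hy)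
  rw [Ideal.map_bot, Submodule.mem_bot]
  exact hx _ (by rw [mul_left_comm]; exact h0)

theorem descend_artinian [Module.Flat C B] (rs : List B) (hreg : RegMod (⊥ : Ideal B) rs) :
    (∀ i ≤ rs.length, Module.Flat C (B ⧸ Ideal.ofList (rs.take i))) ∧
      ∀ I : Ideal C, RegMod (I.map (algebraMap C B)) rs := by
  have hkey : ∀ (i : ℕ) (h : i < rs.length), Module.Flat C (B ⧸ Ideal.ofList (rs.take i)) →
      ∀ (I : Ideal C) (q : B ⧸ Ideal.ofList (rs.take i)),
        Ideal.Quotient.mk _ rs[i] * q ∈ I.map (algebraMap C _) → q ∈ I.map (algebraMap C _) := by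
    intro i h _ I
    refine CodimOneFlat.mem_map_of_mul_mem (fun q hq => mem_maxMap_of_regular (fun q' hq' => ?_) hq) I
    obtain ⟨y, rfl⟩ := Ideal.Quotient.mk_surjective q'
    rw [← map_mul, Ideal.Quotient.eq_zero_iff_mem] at hq'
    rw [Ideal.Quotient.eq_zero_iff_mem]
    simpa using hreg i h y (by simpa using hq')
  have hfl : ∀ i ≤ rs.length, Module.Flat C (B ⧸ Ideal.ofList (rs.take i)) := by
    intro i hi
    induction i with
    | zero =>
      rw [List.take_zero, Ideal.ofList_nil]
      exact Module.Flat.of_linearEquiv (AlgEquiv.quotientBot C B).toLinearEquiv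
    | succ i ih =>
      have h : i < rs.length := hi
      haveI := ih h.le
      rw [ofList_take_succ rs h, ← flat_quotQuot]
      exact flat_quotient_of_regular (hkey i h this)
  refine ⟨hfl, fun I i h y hy => ?_⟩
  rw [← mk_mem_map_iff] at hy ⊢
  rw [map_mul] at hy
  exact hkey i h (hfl i h.le) I _ hy

end Groth.Agent.ArtinFlat
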